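import Cfsg.Agent.Lib.Schur.ChevUniv

/-!
Minuscule representations of the presented groups: `x_r(t) ↦ 1 + t E_r` with signed partial permutation
matrices `E_r` given by a packed table, and the central elements they separate.
-/

set_option autoImplicit false

namespace Cfsg.Agent.Lib.ChevMinuscule

open Cfsg.Lie Cfsg.Agent.Lib.Chev Cfsg.Agent.Lib.Schur.ChevLift

section tables

/-- Change the sign of a code by `p`. -/
def flipC (b p : ℕ) : ℕ := if b / 2 = 0 then 0 else b / 2 * 2 + (b % 2 + p) % 2

variable (D : ChevalleyDatum) (C : Cert) (n T : ℕ)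

/-- The code of column `j` of `E_r`. -/
def code (r j : ℕ) : ℕ := T >>> (8 * (r * n + j)) % 256

/-- Apply `E_r` to a code. -/
def app (r x : ℕ) : ℕ := if x / 2 = 0 then 0 else flipC (code n T r (x / 2 - 1)) (x % 2)

/-- The checks for one root. -/
def rootB (r : ℕ) : Bool :=
  (List.range n).all fun j =>
    let e := code n T r j
    let f := code n T (ng D r) j
    let p := app n T r f
    let q := app n T (ng D r) e
    decide (e / 2 ≤ n) && Nat.beq (app n T r e) 0 && Nat.beq (app n T r q) e &&
      ((Nat.beq p 0 && (Nat.beq q 0 || Nat.beq q (2 * (j + 1)))) || (Nat.beq p (2 * (j + 1)) && Nat.beq q 0))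

/-- The weight of coordinate `j` on the coroot of `r`. -/
def wgtM (r j : ℕ) : ℤ :=
  (if app n T r (code n T (ng D r) j) = 0 then 0 else 1) - (if app n T (ng D r) (code n T r j) = 0 then 0 else 1)

/-- The checks for a pair of roots. -/
def pairB' (r s : ℕ) : Bool :=
  Nat.beq s r || Nat.beq s (ng D r) ||
    match cTerms C r s with
    | [] => (List.range n).all fun j => Nat.beq (app n T s (code n T r j)) (app n T r (code n T s j))
    | [(k, c, 1, 1)] => decide (k < D.nroots) && (decide (c = 1) || decide (c = -1)) &&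
        (List.range n).all fun j =>
          let a := app n T s (code n T r j)
          let b := app n T r (code n T s j)
          let e := code n T k j
          let e' := if c = 1 then e else flipC e 1
          Nat.beq (app n T r e) 0 && Nat.beq (app n T s e) 0 &&
            (if e' / 2 = 0 then Nat.beq a b else
              (Nat.beq a 0 && Nat.beq b e') || (Nat.beq b 0 && Nat.beq a (flipC e' 1)))
    | _ => false

/-- The checks for the central element with exponents `m`. -/
def centreB (d : ℕ) (m : List ℤ) (j₀ : ℕ) : Bool :=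
  decide (j₀ < n) &&
    ((List.range D.nroots).all fun s =>
      decide (((List.range D.rank).map fun i => m.getD i 0 * D.cartan i s).sum % (d : ℤ) = 0)) &&
    decide (((List.range D.rank).map fun i => m.getD i 0 * wgtM D n T (D.simple i) j₀).sum % (d : ℤ) = 1 % (d : ℤ))

/-- A table passing all checks. -/
structure MinuscOK : Prop where
  checked : Checked D C
  roots : ((List.range D.nroots).all fun r => rootB D n T r) = true
  pairs : ((List.range D.nroots).all fun r => (List.range D.nroots).all fun s => pairB' D C n T r s) = true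

end tables

variable {F : Type*} [Field F]

/-- The sign of a parity. -/
def sgnC (F : Type*) [Field F] (p : ℕ) : F := if p % 2 = 0 then 1 else -1

/-- The coefficient of a code at row `i`. -/
def coefC (F : Type*) [Field F] (x i : ℕ) : F := if x / 2 = i + 1 then sgnC F x else 0

theorem coefC_zero (i : ℕ) : coefC F 0 i = 0 := by simp [coefC]

theorem sgnC_add (a b : ℕ) : sgnC F (a + b) = sgnC F a * sgnC F b := by
  rcases Nat.mod_two_eq_zero_or_one a with h | h <;> rcases Nat.mod_two_eq_zero_or_one b with h' | h' <;>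
    simp [sgnC, Nat.add_mod, h, h']

theorem coefC_flipC (b p i : ℕ) : coefC F (flipC b p) i = sgnC F p * coefC F b i := by
  unfold flipC
  split
  · rename_i h; simp [coefC, h]
  · have h1 : (b / 2 * 2 + (b % 2 + p) % 2) / 2 = b / 2 := by omega
    have h2 : sgnC F (b / 2 * 2 + (b % 2 + p) % 2) = sgnC F (b + p) := by
      have : (b / 2 * 2 + (b % 2 + p) % 2) % 2 = (b + p) % 2 := by omega
      simp [sgnC, this]
    simp only [coefC, h1, h2, sgnC_add]
    split <;> ring

variable {D : ChevalleyDatum} {C : Cert} {n T : ℕ}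

/-- The matrix of column codes. -/
def colMat (F : Type*) [Field F] (n : ℕ) (g : ℕ → ℕ) : Matrix (Fin n) (Fin n) F :=
  Matrix.of fun i j => coefC F (g j) i

/-- `E_r`. -/
def emat (F : Type*) [Field F] (n T r : ℕ) : Matrix (Fin n) (Fin n) F := colMat F n (code n T r)

theorem colMat_congr {g g' : ℕ → ℕ} (h : ∀ j < n, g j = g' j) : colMat F n g = colMat F n g' := by
  ext i j; simp [colMat, h j j.isLt]

theorem colMat_eq_zero {g : ℕ → ℕ} (h : ∀ j < n, g j = 0) : colMat F n g = 0 := by
  ext i j; simp [colMat, h j j.isLt, coefC_zero]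

theorem emat_mul_colMat (r : ℕ) {g : ℕ → ℕ} (hg : ∀ j < n, g j / 2 ≤ n) :
    emat F n T r * colMat F n g = colMat F n fun j => app n T r (g j) := by
  ext i j
  simp only [Matrix.mul_apply, emat, colMat, Matrix.of_apply]
  by_cases h0 : g j / 2 = 0
  · have : ∀ k : Fin n, coefC F (g j) k = 0 := fun k => by simp [coefC, h0]
    simp [this, app, h0, coefC_zero]
  · have hk : g j / 2 - 1 < n := by have := hg j j.isLt; omega
    rw [Fintype.sum_eq_single ⟨g j / 2 - 1, hk⟩]
    · have : sgnC F (g j) = sgnC F (g j % 2) := by simp [sgnC]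
      rw [show app n T r (g j) = flipC (code n T r (g j / 2 - 1)) (g j % 2) by simp [app, h0], coefC_flipC]
      simp [coefC, Nat.sub_add_cancel (Nat.pos_of_ne_zero h0), this, mul_comm]
    · intro k hne
      have : ¬ g j / 2 = k + 1 := fun e => hne (Fin.ext (by simp [e]))
      simp [coefC, this]

theorem MinuscOK.root (h : MinuscOK D C n T) {r : ℕ} (hr : r < D.nroots) {j : ℕ} (hj : j < n) :
    code n T r j / 2 ≤ n ∧ app n T r (code n T r j) = 0 ∧
      app n T r (app n T (ng D r) (code n T r j)) = code n T r j ∧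
      ((app n T r (code n T (ng D r) j) = 0 ∧
          (app n T (ng D r) (code n T r j) = 0 ∨ app n T (ng D r) (code n T r j) = 2 * (j + 1))) ∨
        (app n T r (code n T (ng D r) j) = 2 * (j + 1) ∧ app n T (ng D r) (code n T r j) = 0)) := by
  have := List.all_eq_true.1 (List.all_eq_true.1 h.roots r (List.mem_range.2 hr)) j (List.mem_range.2 hj)
  simp only [Bool.and_eq_true, Bool.or_eq_true, decide_eq_true_eq, Nat.beq_eq] at this
  tauto

theorem ng_lt' {r : ℕ} (hr : r < D.nroots) : ng D r < D.nroots := by unfold ng; omega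

theorem ng_ng' {r : ℕ} (hr : r < D.nroots) : ng D (ng D r) = r := by unfold ng; omega

theorem MinuscOK.emat_mul_emat (h : MinuscOK D C n T) (r : ℕ) {s : ℕ} (hs : s < D.nroots) :
    emat F n T r * emat F n T s = colMat F n fun j => app n T r (code n T s j) :=
  emat_mul_colMat r fun _ hj => (h.root hs hj).1

theorem MinuscOK.sq (h : MinuscOK D C n T) {r : ℕ} (hr : r < D.nroots) :
    emat F n T r * emat F n T r = 0 := by
  rw [h.emat_mul_emat r hr]
  exact colMat_eq_zero fun j hj => (h.root hr hj).2.1

theorem MinuscOK.efe (h : MinuscOK D C n T) {r : ℕ} (hr : r < D.nroots) :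
    emat F n T r * emat F n T (ng D r) * emat F n T r = emat F n T r := by
  rw [mul_assoc, h.emat_mul_emat _ hr, emat_mul_colMat]
  · exact colMat_congr fun j hj => (h.root hr hj).2.2.1
  · intro j hj
    rcases (h.root hr hj).2.2.2 with ⟨_, e | e⟩ | ⟨_, e⟩ <;> rw [e] <;> omega

theorem MinuscOK.mul_ng_eq_diagonal (h : MinuscOK D C n T) {r : ℕ} (hr : r < D.nroots) :
    emat F n T r * emat F n T (ng D r) =
      Matrix.diagonal fun j : Fin n => if app n T r (code n T (ng D r) j) = 0 then (0 : F) else 1 := by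
  rw [h.emat_mul_emat _ (ng_lt' hr)]
  ext i j
  simp only [colMat, Matrix.of_apply]
  rcases (h.root hr j.isLt).2.2.2 with ⟨e, _⟩ | ⟨e, _⟩ <;> rw [e] <;>
    by_cases hij : i = j <;> simp [coefC, sgnC, Fin.val_inj, hij, Ne.symm, Matrix.diagonal, e]

section algebra

variable {A : Type*} [Ring A] [Algebra F A] {E G : A}

theorem nTriple (hEE : E * E = 0) (hEGE : E * G * E = E) {t s : F} (hts : t * s = 1) :
    (1 + t • E) * (1 + (-s) • G) * (1 + t • E) = 1 + t • E - s • G - E * G - G * E := by
  have hst : s * t = 1 := by rw [mul_comm, hts]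
  simp only [mul_add, add_mul, mul_one, one_mul, smul_mul_assoc, mul_smul_comm, smul_add, smul_smul, hEE, hEGE,
    smul_zero, smul_neg, mul_neg, neg_mul, hts, hst, neg_smul, one_smul]
  abel

theorem hSix (hEE : E * E = 0) (hGG : G * G = 0) (hEGE : E * G * E = E) (hGEG : G * E * G = G)
    {t s : F} (hts : t * s = 1) :
    (1 + t • E) * (1 + (-s) • G) * (1 + t • E) * ((1 + (-1 : F) • E) * (1 + (1 : F) • G) * (1 + (-1 : F) • E)) =
      1 + (t - 1) • (E * G) + (s - 1) • (G * E) := by
  have h1 := nTriple (F := F) hEE hEGE (t := (-1 : F)) (s := -1) (by ring)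
  rw [neg_neg] at h1
  rw [nTriple hEE hEGE hts, h1]
  have a1 : E * (G * E) = E := by rw [← mul_assoc, hEGE]
  have a2 : G * (E * G) = G := by rw [← mul_assoc, hGEG]
  have a3 : ∀ X : A, E * (E * X) = 0 := fun X => by rw [← mul_assoc, hEE, zero_mul]
  have a4 : ∀ X : A, G * (G * X) = 0 := fun X => by rw [← mul_assoc, hGG, zero_mul]
  simp only [neg_smul, one_smul, sub_eq_add_neg, mul_add, add_mul, mul_one, one_mul, mul_neg, neg_mul, neg_neg,
    smul_mul_assoc, mul_smul_comm, smul_smul, smul_zero, mul_zero, neg_zero, hEE, hGG, mul_assoc, a1, a2, a3, a4,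
    add_smul]
  abel

theorem comm_pair {R S K : A} {t u c : F} (hRK : R * K = 0) (hSK : S * K = 0) (hc : S * R + c • K = R * S) :
    (1 + u • S) * (1 + t • R) = (1 + t • R) * (1 + u • S) * (1 + (c * (-t) ^ 1 * u ^ 1) • K) := by
  have e : S * R = R * S - c • K := eq_sub_of_add_eq hc
  simp only [mul_add, add_mul, mul_one, one_mul, smul_mul_assoc, mul_smul_comm, smul_smul, hRK, hSK, e,
    mul_assoc, smul_zero, mul_zero, pow_one, smul_sub]
  module

end algebra

theorem MinuscOK.pair_nil (h : MinuscOK D C n T) {r s : ℕ} (hr : r < D.nroots) (hs : s < D.nroots)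
    (h1 : s ≠ r) (h2 : s ≠ ng D r) (he : cTerms C r s = []) :
    emat F n T s * emat F n T r = emat F n T r * emat F n T s := by
  have := List.all_eq_true.1 (List.all_eq_true.1 h.pairs r (List.mem_range.2 hr)) s (List.mem_range.2 hs)
  simp only [pairB', he, Bool.or_eq_true, Nat.beq_eq, h1, h2, false_or, List.all_eq_true, List.mem_range] at this
  rw [h.emat_mul_emat _ hr, h.emat_mul_emat _ hs]
  exact colMat_congr fun j hj => this j hj

theorem MinuscOK.pair_terms (h : MinuscOK D C n T) {r s : ℕ} (hr : r < D.nroots) (hs : s < D.nroots)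
    (h1 : s ≠ r) (h2 : s ≠ ng D r) (hne : cTerms C r s ≠ []) :
    ∃ (k : ℕ) (c : ℤ), cTerms C r s = [(k, c, 1, 1)] ∧ emat F n T r * emat F n T k = 0 ∧
      emat F n T s * emat F n T k = 0 ∧
      emat F n T s * emat F n T r + (c : F) • emat F n T k = emat F n T r * emat F n T s := by
  have := List.all_eq_true.1 (List.all_eq_true.1 h.pairs r (List.mem_range.2 hr)) s (List.mem_range.2 hs)
  simp only [pairB', Bool.or_eq_true, Nat.beq_eq, h1, h2, false_or] at this
  split at this
  · exact absurd (by assumption) hne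
  · rename_i k c heq
    simp only [Bool.and_eq_true, Bool.or_eq_true, decide_eq_true_eq, Nat.beq_eq, List.all_eq_true, List.mem_range] at this
    obtain ⟨⟨hk, hcpm⟩, hj⟩ := this
    refine ⟨k, c, heq, ?_, ?_, ?_⟩
    · rw [h.emat_mul_emat _ hk]; exact colMat_eq_zero fun j hj' => (hj j hj').1.1
    · rw [h.emat_mul_emat _ hk]; exact colMat_eq_zero fun j hj' => (hj j hj').1.2
    · rw [h.emat_mul_emat _ hr, h.emat_mul_emat _ hs]
      ext i j
      have h3 := (hj j j.isLt).2
      have hce : (c : F) * coefC F (code n T k j) i =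
          coefC F (if c = 1 then code n T k j else flipC (code n T k j) 1) i := by
        rcases hcpm with rfl | rfl <;> simp [coefC_flipC, sgnC]
      simp only [colMat, emat, Matrix.add_apply, Matrix.smul_apply, Matrix.of_apply, smul_eq_mul]
      rw [hce]
      generalize (if c = 1 then code n T k j else flipC (code n T k j) 1) = e' at h3 ⊢
      split at h3
      · rename_i he
        simp only [Nat.beq_eq] at h3
        simp [h3, coefC, he]
      · simp only [Bool.or_eq_true, Bool.and_eq_true, Nat.beq_eq] at h3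
        rcases h3 with ⟨e1, e2⟩ | ⟨e1, e2⟩ <;> simp [e1, e2, coefC_zero, coefC_flipC, sgnC]
  · simp at this

/-- `1 + t E_r` as a unit. -/
noncomputable def MinuscOK.gen (h : MinuscOK D C n T) (F : Type*) [Field F] (r : ℕ) (t : F) :
    GL (Fin n) F :=
  if hr : r < D.nroots then
    ⟨1 + t • emat F n T r, 1 + (-t) • emat F n T r,
      by simp [mul_add, add_mul, h.sq hr],
      by simp [mul_add, add_mul, h.sq hr]⟩
  else 1

theorem MinuscOK.coe_gen (h : MinuscOK D C n T) {r : ℕ} (hr : r < D.nroots) (t : F) :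
    ((h.gen F r t : GL (Fin n) F) : Matrix (Fin n) (Fin n) F) = 1 + t • emat F n T r := by
  simp [MinuscOK.gen, hr]

theorem MinuscOK.lift_stX (h : MinuscOK D C n T) {r : ℕ} (hr : r < D.nroots) (t : F) :
    FreeGroup.lift (fun p : Fin D.nroots × F => h.gen F p.1 p.2) (D.stX r t) = h.gen F r t := by
  simp [ChevalleyDatum.stX, hr]

theorem MinuscOK.lift_stH (h : MinuscOK D C n T) {r : ℕ} (hr : r < D.nroots) {t : F} (ht : t ≠ 0) :
    ((FreeGroup.lift (fun p : Fin D.nroots × F => h.gen F p.1 p.2) (D.stH r t) : GL (Fin n) F) :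
      Matrix (Fin n) (Fin n) F) = Matrix.diagonal fun j : Fin n => t ^ wgtM D n T r j := by
  have hm := ng_lt' (D := D) hr
  simp only [ChevalleyDatum.stH, ChevalleyDatum.stWord, ChevalleyDatum.hWord, ChevalleyDatum.nWord,
    h.checked.neg_eq hr, List.cons_append, List.nil_append, List.map_cons, List.map_nil, List.prod_cons,
    List.prod_nil, mul_one, map_mul, Units.val_mul, h.lift_stX hr, h.lift_stX hm, h.coe_gen hr, h.coe_gen hm,
    inv_neg, inv_one, neg_neg]
  have hG := h.efe (F := F) hm
  rw [ng_ng' hr] at hG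
  have e := hSix (F := F) (h.sq (F := F) hr) (h.sq hm) (h.efe hr) hG (mul_inv_cancel₀ ht)
  simp only [mul_assoc] at e ⊢
  rw [e]
  have hQ := h.mul_ng_eq_diagonal (F := F) hm
  rw [ng_ng' hr] at hQ
  rw [h.mul_ng_eq_diagonal hr, hQ]
  ext i j
  by_cases hij : i = j
  · subst hij
    simp only [Matrix.add_apply, Matrix.smul_apply, Matrix.one_apply_eq, Matrix.diagonal_apply_eq, smul_eq_mul,
      wgtM]
    rcases (h.root hr i.isLt).2.2.2 with ⟨e1, e2 | e2⟩ | ⟨e1, e2⟩ <;> simp [e1, e2]
  · simp [hij]

/-- The representation. -/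
theorem MinuscOK.exists_rep (h : MinuscOK D C n T) :
    ∃ ψ : D.SteinbergGroup F →* GL (Fin n) F,
      ∀ a, ψ (PresentedGroup.mk _ a) = FreeGroup.lift (fun p : Fin D.nroots × F => h.gen F p.1 p.2) a := by
  set L := FreeGroup.lift (fun p : Fin D.nroots × F => h.gen F p.1 p.2) with hL
  have hrels : ∀ g ∈ D.steinbergRels F, L g = 1 := by
    rintro g ((⟨r, t, u, hr, rfl⟩ | ⟨r, s, t, u, hr, hs, h1, h2, rfl⟩) | ⟨r, t, u, hr, ht, hu, rfl⟩)
    · rw [map_mul, map_inv, mul_inv_eq_one]
      refine Units.ext ?_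
      simp only [map_mul, Units.val_mul, hL, h.lift_stX hr, h.coe_gen hr, mul_add, add_mul, mul_one, one_mul,
        smul_mul_assoc, mul_smul_comm, smul_smul, h.sq hr, smul_zero, add_smul]
      abel
    · rw [h.checked.neg_eq hr] at h2
      suffices e : L (D.stX s u) * L (D.stX r t) =
          L (D.stX r t) * L (D.stX s u) * L (D.stWord (D.commWord F r s t u)) by
        simp only [map_mul, map_inv]
        rw [mul_assoc _ (L (D.stX s u)) (L (D.stX r t)), e]
        group
      refine Units.ext ?_
      rw [h.checked.commWord_eq hr hs]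
      by_cases hnil : cTerms C r s = []
      · simp only [hnil, ChevalleyDatum.stWord, List.map_nil, List.prod_nil, map_one, mul_one, Units.val_mul, hL,
          h.lift_stX hr, h.lift_stX hs, h.coe_gen hr, h.coe_gen hs, mul_add, add_mul, one_mul, smul_mul_assoc,
          mul_smul_comm, smul_smul, h.pair_nil hr hs h1 h2 hnil]
        module
      · obtain ⟨k, c, he, hRK, hSK, hc⟩ := h.pair_terms (F := F) hr hs h1 h2 hnil
        have hk : k < D.nroots := h.checked.cTerms_lt hr hs (k, c, 1, 1) (by simp [he])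
        simp only [he, ChevalleyDatum.stWord, List.map_cons, List.map_nil, List.prod_cons, List.prod_nil, mul_one,
          Units.val_mul, hL, h.lift_stX hr, h.lift_stX hs, h.lift_stX hk, h.coe_gen hr, h.coe_gen hs, h.coe_gen hk]
        exact comm_pair hRK hSK hc
    · rw [map_mul, map_inv, mul_inv_eq_one]
      refine Units.ext ?_
      rw [map_mul, Units.val_mul, hL, h.lift_stH hr ht, h.lift_stH hr hu, h.lift_stH hr (mul_ne_zero ht hu),
        Matrix.diagonal_mul_diagonal]
      simp [mul_zpow]
  refine ⟨PresentedGroup.toGroup (f := fun p : Fin D.nroots × F => h.gen F p.1 p.2) hrels, fun a => ?_⟩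
  induction a using FreeGroup.induction_on with
  | C1 => simp
  | of x => rw [hL, FreeGroup.lift_apply_of]; exact PresentedGroup.toGroup.of _
  | inv_of x ih => rw [map_inv, map_inv, map_inv, ih]
  | mul a b iha ihb => rw [map_mul, map_mul, map_mul, iha, ihb]

/-- A unit of multiplicative order dividing `d` gives a central element of at least that order. -/
theorem MinuscOK.exists_central (h : MinuscOK D C n T) {C' : Cert} {θ : D.SteinbergGroup F →* ↥(D.group F)}
    (U : UnivMap D C' F (D.stGen F) θ) {d j₀ : ℕ} {m : List ℤ} (hm : centreB D n T d m j₀ = true)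
    (ζ : Fˣ) (hζ : ζ ^ d = 1) :
    ∃ z ∈ Subgroup.center (D.SteinbergGroup F), orderOf ζ ∣ orderOf z := by
  simp only [centreB, Bool.and_eq_true, List.all_eq_true, List.mem_range, decide_eq_true_eq] at hm
  obtain ⟨⟨hj₀, hs0⟩, hw⟩ := hm
  obtain ⟨ψ, hψ⟩ := h.exists_rep (F := F)
  have hc := h.checked
  let w : ℕ → FreeGroup (Fin D.nroots × F) := fun i => D.stH (D.simple i) ((ζ ^ m.getD i 0 : Fˣ) : F)
  let z : D.SteinbergGroup F := PresentedGroup.mk _ ((List.range D.rank).map w).prod
  have hθ : ∀ l : List ℕ, (∀ i ∈ l, i < D.rank) →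
      ((θ (PresentedGroup.mk _ (l.map w).prod) : GL D.Idx F) : Matrix D.Idx D.Idx F) =
        D.charDiag F fun s => ζ ^ (l.map fun i => m.getD i 0 * D.cartan i s).sum := by
    intro l hl
    induction l with
    | nil => simp [charDiag_one]
    | cons i l ih =>
      have hi := hl i List.mem_cons_self
      have e : PresentedGroup.mk (D.steinbergRels F) (w i) =
          hX D (D.stGen F) i ((ζ ^ m.getD i 0 : Fˣ) : F) := by
        show PresentedGroup.mk _ (D.stH (D.simple i) ((ζ ^ m.getD i 0 : Fˣ) : F)) = _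
        generalize ((ζ ^ m.getD i 0 : Fˣ) : F) = t
        simp [hX, nX, ChevalleyDatum.stH, ChevalleyDatum.stWord, ChevalleyDatum.hWord, ChevalleyDatum.nWord,
          hc.neg_eq (hc.simple_lt hi)]
        simp [wordX, ChevalleyDatum.stGen, mul_assoc]
      simp only [List.map_cons, List.prod_cons, map_mul, Subgroup.coe_mul, Units.val_mul, List.sum_cons,
        ih (fun j hj => hl j (List.mem_cons_of_mem _ hj)), e]
      rw [show ((θ (hX D (D.stGen F) i ((ζ ^ m.getD i 0 : Fˣ) : F)) : GL D.Idx F) : Matrix D.Idx D.Idx F) =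
        D.hMat F (D.simple i) ((ζ ^ m.getD i 0 : Fˣ) : F) from U.lift.map_hX hi _,
        hc.hMat_simple hi, powDiag_eq_charDiag, charDiag_mul]
      congr 1
      funext s
      rw [← zpow_mul, ← zpow_add]
  have hψ' : ∀ l : List ℕ, (∀ i ∈ l, i < D.rank) →
      ((ψ (PresentedGroup.mk _ (l.map w).prod) : GL (Fin n) F) : Matrix (Fin n) (Fin n) F) =
        Matrix.diagonal fun j : Fin n =>
          ((ζ ^ (l.map fun i => m.getD i 0 * wgtM D n T (D.simple i) j).sum : Fˣ) : F) := by
    intro l hl
    induction l with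
    | nil => simp
    | cons i l ih =>
      simp only [List.map_cons, List.prod_cons, map_mul, Units.val_mul, List.sum_cons,
        ih (fun j hj => hl j (List.mem_cons_of_mem _ hj))]
      rw [hψ, h.lift_stH (hc.simple_lt (hl i List.mem_cons_self)) (Units.ne_zero _), Matrix.diagonal_mul_diagonal]
      congr 1
      funext j
      rw [zpow_add, Units.val_mul, zpow_mul, Units.val_zpow_eq_zpow_val (ζ ^ _)]
  have hz : θ z = 1 := by
    refine Subtype.ext (Units.ext ?_)
    show ((θ z : GL D.Idx F) : Matrix D.Idx D.Idx F) = 1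
    rw [hθ _ fun i hi => List.mem_range.1 hi, ← charDiag_one (D := D) (F := F)]
    refine congrArg Matrix.diagonal (funext fun x => ?_)
    rcases x with i | s
    · rfl
    · obtain ⟨k, hk⟩ := Int.dvd_of_emod_eq_zero (hs0 s s.isLt)
      simp only [Sum.elim_inr]
      rw [hk, zpow_mul, zpow_natCast, hζ, one_zpow]
  refine ⟨z, by rw [← U.ker_eq_center]; exact hz, ?_⟩
  refine orderOf_dvd_of_pow_eq_one ?_
  have e := congrArg (fun g : GL (Fin n) F => (g : Matrix (Fin n) (Fin n) F) ⟨j₀, hj₀⟩ ⟨j₀, hj₀⟩)
    (show ψ z ^ orderOf z = 1 by rw [← map_pow, pow_orderOf_eq_one, map_one])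
  simp only [Units.val_pow_eq_pow_val, z, hψ' _ fun i hi => List.mem_range.1 hi, Matrix.diagonal_pow,
    Matrix.diagonal_apply_eq, Pi.pow_apply, Units.val_one, Matrix.one_apply_eq] at e
  have hζ' : ζ ^ (((List.range D.rank).map fun i => m.getD i 0 * wgtM D n T (D.simple i) j₀).sum) = ζ := by
    obtain ⟨k, hk⟩ := Int.dvd_of_emod_eq_zero (Int.emod_eq_emod_iff_emod_sub_eq_zero.1 hw)
    rw [show ((List.range D.rank).map fun i => m.getD i 0 * wgtM D n T (D.simple i) j₀).sum = (d : ℤ) * k + 1 by omega,
      zpow_add, zpow_mul, zpow_natCast, hζ, one_zpow, one_mul, zpow_one]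
  rw [hζ'] at e
  exact Units.ext (by rw [Units.val_pow_eq_pow_val, e, Units.val_one])

end Cfsg.Agent.Lib.ChevMinuscule
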